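import Groth.Prelude.Def_AlgSpMor5

set_option autoImplicit false
set_option backward.isDefEq.respectTransparency false
universe u
open CategoryTheory CategoryTheory.Limits AlgebraicGeometry
open AlgSp

namespace Groth.Agent.H53.RefVal

variable {S : Scheme.{u}}

/-- The morphism `Spec T' ⟶ Spec T` over `S` induced by a ring map, for arbitrary structure maps. -/
noncomputable def spHom {T T' : Type u} [CommRing T] [CommRing T'] {s : Spec (CommRingCat.of T) ⟶ S}
    {s' : Spec (CommRingCat.of T') ⟶ S} (φ : T →+* T')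
    (w : Spec.map (CommRingCat.ofHom φ) ≫ s = s') : Over.mk s' ⟶ Over.mk s :=
  Over.homMk (Spec.map (CommRingCat.ofHom φ)) w

theorem spHom_left {T T' : Type u} [CommRing T] [CommRing T'] {s : Spec (CommRingCat.of T) ⟶ S}
    {s' : Spec (CommRingCat.of T') ⟶ S} (φ : T →+* T')
    (w : Spec.map (CommRingCat.ofHom φ) ≫ s = s') :
    (spHom φ w).left = Spec.map (CommRingCat.ofHom φ) := rfl

theorem spHom_comp_w {T T' T'' : Type u} [CommRing T] [CommRing T'] [CommRing T'']
    {s : Spec (CommRingCat.of T) ⟶ S} {s' : Spec (CommRingCat.of T') ⟶ S}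
    {s'' : Spec (CommRingCat.of T'') ⟶ S} (φ : T →+* T')
    (w : Spec.map (CommRingCat.ofHom φ) ≫ s = s') (ψ : T' →+* T'')
    (w' : Spec.map (CommRingCat.ofHom ψ) ≫ s' = s'') :
    Spec.map (CommRingCat.ofHom (ψ.comp φ)) ≫ s = s'' := by
  rw [CommRingCat.ofHom_comp, Spec.map_comp, Category.assoc, w, w']

theorem spHom_comp {T T' T'' : Type u} [CommRing T] [CommRing T'] [CommRing T'']
    {s : Spec (CommRingCat.of T) ⟶ S} {s' : Spec (CommRingCat.of T') ⟶ S}
    {s'' : Spec (CommRingCat.of T'') ⟶ S} (φ : T →+* T')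
    (w : Spec.map (CommRingCat.ofHom φ) ≫ s = s') (ψ : T' →+* T'')
    (w' : Spec.map (CommRingCat.ofHom ψ) ≫ s' = s'') :
    spHom ψ w' ≫ spHom φ w = spHom (ψ.comp φ) (spHom_comp_w φ w ψ w') := by
  apply Over.OverMorphism.ext
  rw [Over.comp_left, spHom_left, spHom_left, spHom_left, CommRingCat.ofHom_comp, Spec.map_comp]

theorem spHom_congr {T T' : Type u} [CommRing T] [CommRing T'] {s : Spec (CommRingCat.of T) ⟶ S}
    {s' : Spec (CommRingCat.of T') ⟶ S} {φ φ' : T →+* T'}
    (w : Spec.map (CommRingCat.ofHom φ) ≫ s = s') (w' : Spec.map (CommRingCat.ofHom φ') ≫ s = s')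
    (e : φ = φ') : spHom φ w = spHom φ' w' := by
  subst e
  rfl

/-- Every morphism over `S` between spectra of rings comes from a ring map. -/
theorem exists_spHom_eq {T T' : Type u} [CommRing T] [CommRing T'] {s : Spec (CommRingCat.of T) ⟶ S}
    {s' : Spec (CommRingCat.of T') ⟶ S} (m : Over.mk s' ⟶ Over.mk s) :
    ∃ (φ : T →+* T') (w : Spec.map (CommRingCat.ofHom φ) ≫ s = s'), spHom φ w = m := by
  let φc : CommRingCat.of T ⟶ CommRingCat.of T' := Spec.preimage m.left
  have hφc : Spec.map (CommRingCat.ofHom φc.hom) = m.left := Spec.map_preimage _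
  have w : Spec.map (CommRingCat.ofHom φc.hom) ≫ s = s' := by
    rw [hφc]
    exact Over.w m
  refine ⟨φc.hom, w, ?_⟩
  apply Over.OverMorphism.ext
  rw [spHom_left]
  exact hφc

/-- Ring maps are determined by the induced morphisms. -/
theorem eq_of_spHom_eq {T T' : Type u} [CommRing T] [CommRing T'] {s : Spec (CommRingCat.of T) ⟶ S}
    {s' : Spec (CommRingCat.of T') ⟶ S} {φ φ' : T →+* T'}
    (w : Spec.map (CommRingCat.ofHom φ) ≫ s = s') (w' : Spec.map (CommRingCat.ofHom φ') ≫ s = s')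
    (e : spHom φ w = spHom φ' w') : φ = φ' := by
  have h1 : Spec.map (CommRingCat.ofHom φ) = Spec.map (CommRingCat.ofHom φ') :=
    congrArg (fun k => k.left) e
  have h2 := Spec.map_injective h1
  exact congrArg (fun k => k.hom) h2

/-- An equation between `Spec.map`s over a base from an equation of ring maps. -/
theorem spec_eq_of_eq {R T : Type u} [CommRing R] [CommRing T] (sR : Spec (CommRingCat.of R) ⟶ S)
    {X Y : R →+* T} (e : X = Y) :
    Spec.map (CommRingCat.ofHom X) ≫ sR = Spec.map (CommRingCat.ofHom Y) ≫ sR := by rw [e]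

/-- Normalize towers of `Spec.map`s. -/
macro "spec_w" : tactic =>
  `(tactic| (simp only [← Spec.map_comp_assoc, ← Spec.map_comp, ← CommRingCat.ofHom_comp,
      Category.assoc]))

theorem yon_spHom_comp {T T' T'' : Type u} [CommRing T] [CommRing T'] [CommRing T'']
    {s : Spec (CommRingCat.of T) ⟶ S} {s' : Spec (CommRingCat.of T') ⟶ S}
    {s'' : Spec (CommRingCat.of T'') ⟶ S} (φ : T →+* T')
    (w : Spec.map (CommRingCat.ofHom φ) ≫ s = s') (ψ : T' →+* T'')
    (w' : Spec.map (CommRingCat.ofHom ψ) ≫ s' = s'') :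
    (yon S).map (spHom ψ w') ≫ (yon S).map (spHom φ w) =
      (yon S).map (spHom (ψ.comp φ) (spHom_comp_w φ w ψ w')) := by
  rw [← Functor.map_comp, spHom_comp]

theorem yon_spHom_comp_assoc {T T' T'' : Type u} [CommRing T] [CommRing T'] [CommRing T'']
    {s : Spec (CommRingCat.of T) ⟶ S} {s' : Spec (CommRingCat.of T') ⟶ S}
    {s'' : Spec (CommRingCat.of T'') ⟶ S} (φ : T →+* T')
    (w : Spec.map (CommRingCat.ofHom φ) ≫ s = s') (ψ : T' →+* T'')
    (w' : Spec.map (CommRingCat.ofHom ψ) ≫ s' = s'') {F : Sp S} (g : (yon S).obj (Over.mk s) ⟶ F) :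
    (yon S).map (spHom ψ w') ≫ (yon S).map (spHom φ w) ≫ g =
      (yon S).map (spHom (ψ.comp φ) (spHom_comp_w φ w ψ w')) ≫ g := by
  rw [← Category.assoc, yon_spHom_comp]

theorem yon_spHom_congr {T T' : Type u} [CommRing T] [CommRing T']
    {s : Spec (CommRingCat.of T) ⟶ S} {s' : Spec (CommRingCat.of T') ⟶ S} {φ φ' : T →+* T'}
    (w : Spec.map (CommRingCat.ofHom φ) ≫ s = s') (w' : Spec.map (CommRingCat.ofHom φ') ≫ s = s')
    (e : φ = φ') : (yon S).map (spHom φ w) = (yon S).map (spHom φ' w') := by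
  rw [spHom_congr w w' e]

theorem eq_of_yon_spHom_eq {T T' : Type u} [CommRing T] [CommRing T']
    {s : Spec (CommRingCat.of T) ⟶ S} {s' : Spec (CommRingCat.of T') ⟶ S} {φ φ' : T →+* T'}
    (w : Spec.map (CommRingCat.ofHom φ) ≫ s = s') (w' : Spec.map (CommRingCat.ofHom φ') ≫ s = s')
    (e : (yon S).map (spHom φ w) = (yon S).map (spHom φ' w')) : φ = φ' :=
  eq_of_spHom_eq w w' ((yon S).map_injective e)

end Groth.Agent.H53.RefVal
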