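import Groth.Agent.H53.RefVal.Gen
import Groth.Agent.H53.ValuativeClosed2
import Groth.Agent.H53.ValuativeRep
import Groth.Agent.H53.ValuativeSep

set_option autoImplicit false
set_option backward.isDefEq.respectTransparency false
universe u
open CategoryTheory CategoryTheory.Limits AlgebraicGeometry IsLocalRing
open AlgSp

namespace Groth.Agent.H53.RefVal

open Groth.Agent.H52

variable {S : Scheme.{u}}

/-- Every affine scheme over `S` is, up to isomorphism, of the form `Spec R ⟶ S`. -/
theorem exists_affine_normal_form (V : Over S) [IsAffine V.left] :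
    ∃ (R : Type u) (_ : CommRing R) (sR : Spec (CommRingCat.of R) ⟶ S),
      Nonempty (Over.mk sR ≅ V) := by
  refine ⟨Γ(V.left, ⊤), inferInstance, V.left.isoSpec.inv ≫ V.hom,
    ⟨Over.isoMk V.left.isoSpec.symm ?_⟩⟩
  rfl

/-- A lift over a dominating extension, with arbitrary (propositionally equal) structure maps. -/
theorem hasLiftExt_of_lift {F G : Sp S} {f : F ⟶ G} (sq : ValSq f) {A' K' : Type u} [CommRing A']
    [IsDomain A'] [ValuationRing A'] [Field K'] [Algebra A' K'] [IsFractionRing A' K']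
    (φ : sq.A →+* A') (ψ : sq.K →+* K')
    (comm : (algebraMap A' K').comp φ = ψ.comp (algebraMap sq.A sq.K)) (hloc : IsLocalHom φ)
    {sA' : Spec (CommRingCat.of A') ⟶ S} {sK' : Spec (CommRingCat.of K') ⟶ S}
    (wφ : Spec.map (CommRingCat.ofHom φ) ≫ sq.str = sA')
    (wa : Spec.map (CommRingCat.ofHom (algebraMap A' K')) ≫ sA' = sK')
    (wψ : Spec.map (CommRingCat.ofHom ψ) ≫
      (Spec.map (CommRingCat.ofHom (algebraMap sq.A sq.K)) ≫ sq.str) = sK')
    (l : (yon S).obj (Over.mk sA') ⟶ F)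
    (h1 : (yon S).map (spHom (algebraMap A' K') wa) ≫ l = (yon S).map (spHom ψ wψ) ≫ sq.top)
    (h2 : l ≫ f = (yon S).map (spHom φ wφ) ≫ sq.bot) : sq.HasLiftExt := by
  subst wφ
  subst wa
  exact ⟨{ A' := A', K' := K', φ := φ, ψ := ψ, comm := comm, isLocalHom := hloc }, l, h1, h2⟩

/-- The refined valuative criterion gives the existence part of the valuative criterion. -/
theorem existVC_of_refined {U X Y : Sp S} (hU : IsAlgSpace U) (hX : IsAlgSpace X)
    (hY : IsAlgSpace Y) (f : X ⟶ Y) (h : U ⟶ X) (hh : IsQuasiCompactMor h)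
    (hd : DenseRange (Points.map h))
    (hv : ∀ sq : ValSq f, (∃ t : (yon S).obj sq.ptK ⟶ U, t ≫ h = sq.top) →
      sq.HasUniq ∧ sq.HasLiftExt) : ExistVC f := by
  intro sq
  have hE : (RepWith (S := S) @Etale).IsMultiplicative := repWith_isMultiplicative _
  obtain ⟨V, d₀, v, hVaff, hd₀, hv₀⟩ :=
    Groth.Agent.H53.FibrePts.exists_affine_chart hY (Points.ofPt sq.bot (closedPoint sq.A))
  have _ : IsAffine V.left := hVaff
  obtain ⟨R, _, sR, ⟨eV⟩⟩ := exists_affine_normal_form V
  let d : (yon S).obj (Over.mk sR) ⟶ Y := (yon S).map eV.hom ≫ d₀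
  have hiso : Etale eV.hom.left := inferInstance
  have hde : RepWith @Etale d := hE.comp_mem _ _ ((repWith_yon_map_iff _ _).2 hiso) hd₀
  -- the base change
  have pb : IsPullback (pullback.fst f d) (pullback.snd f d) f d := IsPullback.of_hasPullback _ _
  have pbU : IsPullback (pullback.fst h (pullback.fst f d)) (pullback.snd h (pullback.fst f d)) h
      (pullback.fst f d) := IsPullback.of_hasPullback _ _
  have hX₁ : IsAlgSpace (pullback f d) := isAlgSpace_of_isPullback pb hX hY (IsAlgSpace.yon_obj _)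
  have hU₁ : IsAlgSpace (pullback h (pullback.fst f d)) := isAlgSpace_of_isPullback pbU hU hX hX₁
  have hg₁ : RepWith @Etale (pullback.fst f d) := MorphismProperty.of_isPullback pb.flip hde
  have hh₁ : IsQuasiCompactMor (pullback.snd h (pullback.fst f d)) :=
    isQuasiCompactMor_of_isPullback pbU hh
  have hd₁ : DenseRange (Points.map (pullback.snd h (pullback.fst f d))) :=
    denseRange_of_isPullback pbU hg₁ hd
  have hv₁ := hv_of_isPullback pb pbU.w hv
  -- lifting the bottom arrow
  have hb : Points.ofPt sq.bot (closedPoint sq.A) ∈ Set.range (Points.map d) := by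
    refine ⟨Points.ofScheme _ (eV.inv.left v), ?_⟩
    rw [← Points.ofPt_eq_map_ofScheme, Groth.Agent.H53.FibrePts.ofPt_yon_map_comp, ← hv₀]
    congr 1
    change (eV.inv.left ≫ eV.hom.left) v = v
    rw [← Over.comp_left, Iso.inv_hom_id]
    rfl
  obtain ⟨A', _, _, _, φ, hφinj, hφloc, lb, hlb⟩ :=
    Groth.Agent.H53.exists_valuationRing_lift_of_flat (IsAlgSpace.yon_obj _) hY d
      (Groth.Agent.H53.AffineChart.locP_flat_lfp_of_etale d hde).1 sq.A sq.str sq.bot hb
  let K' := FractionRing A'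
  have hg : Function.Injective ((algebraMap A' K').comp φ) :=
    (IsFractionRing.injective A' K').comp hφinj
  let ψ : sq.K →+* K' := IsFractionRing.lift hg
  have hψ : ∀ a, ψ (algebraMap sq.A sq.K a) = algebraMap A' K' (φ a) :=
    fun a => IsFractionRing.lift_algebraMap hg a
  have r1 : ψ.comp (algebraMap sq.A sq.K) = (algebraMap A' K').comp φ := by
    ext a
    exact hψ a
  have wψ : Spec.map (CommRingCat.ofHom ψ) ≫
      (Spec.map (CommRingCat.ofHom (algebraMap sq.A sq.K)) ≫ sq.str) =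
      Spec.map (CommRingCat.ofHom (algebraMap A' K')) ≫
        Spec.map (CommRingCat.ofHom φ) ≫ sq.str := by
    spec_w
    exact spec_eq_of_eq sq.str r1
  have hlb' : lb ≫ d = (yon S).map (spHom φ rfl) ≫ sq.bot := hlb
  have hcomm' : sq.top ≫ f = (yon S).map (spHom (algebraMap sq.A sq.K) rfl) ≫ sq.bot := sq.comm
  have htopw : ((yon S).map (spHom ψ wψ) ≫ sq.top) ≫ f =
      ((yon S).map (spHom (algebraMap A' K') rfl) ≫ lb) ≫ d := by
    rw [Category.assoc, hcomm', Category.assoc, hlb', yon_spHom_comp_assoc, yon_spHom_comp_assoc]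
    exact congrArg (· ≫ sq.bot) (yon_spHom_congr _ _ r1)
  let sq₁ : ValSq (pullback.snd f d) :=
    { A := A', K := K', str := Spec.map (CommRingCat.ofHom φ) ≫ sq.str
      top := pb.lift ((yon S).map (spHom ψ wψ) ≫ sq.top)
        ((yon S).map (spHom (algebraMap A' K') rfl) ≫ lb) htopw
      bot := lb
      comm := pb.lift_snd _ _ _ }
  obtain ⟨e₂, l₂, hl₂1, hl₂2⟩ := hasLiftExt_of_affine_target sR hU₁ hX₁ (pullback.snd f d)
    (pullback.snd h (pullback.fst f d)) hh₁ hd₁ hv₁ sq₁
  -- composing the extensions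
  let φ₂ : A' →+* e₂.A' := e₂.φ
  let ψ₂ : K' →+* e₂.K' := e₂.ψ
  have hcomm₂ : (algebraMap e₂.A' e₂.K').comp φ₂ = ψ₂.comp (algebraMap A' K') := e₂.comm
  have hloc₂ : IsLocalHom φ₂ := e₂.isLocalHom
  have wψ₂ : Spec.map (CommRingCat.ofHom ψ₂) ≫ (Spec.map (CommRingCat.ofHom (algebraMap A' K')) ≫
      Spec.map (CommRingCat.ofHom φ) ≫ sq.str) =
      Spec.map (CommRingCat.ofHom (algebraMap e₂.A' e₂.K')) ≫
        Spec.map (CommRingCat.ofHom φ₂) ≫ Spec.map (CommRingCat.ofHom φ) ≫ sq.str := by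
    spec_w
    refine spec_eq_of_eq sq.str ?_
    rw [← RingHom.comp_assoc, ← RingHom.comp_assoc, hcomm₂]
  have hl₂1' : (yon S).map (spHom (algebraMap e₂.A' e₂.K') rfl) ≫ l₂ =
      (yon S).map (spHom ψ₂ wψ₂) ≫ pb.lift ((yon S).map (spHom ψ wψ) ≫ sq.top)
        ((yon S).map (spHom (algebraMap A' K') rfl) ≫ lb) htopw := hl₂1
  have hl₂2' : l₂ ≫ pullback.snd f d = (yon S).map (spHom φ₂ rfl) ≫ lb := hl₂2
  have wφt : Spec.map (CommRingCat.ofHom (φ₂.comp φ)) ≫ sq.str =
      Spec.map (CommRingCat.ofHom φ₂) ≫ Spec.map (CommRingCat.ofHom φ) ≫ sq.str := by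
    spec_w
  have hcommt : (algebraMap e₂.A' e₂.K').comp (φ₂.comp φ) =
      (ψ₂.comp ψ).comp (algebraMap sq.A sq.K) := by
    rw [← RingHom.comp_assoc, hcomm₂, RingHom.comp_assoc, RingHom.comp_assoc, r1]
  have wψt : Spec.map (CommRingCat.ofHom (ψ₂.comp ψ)) ≫
      (Spec.map (CommRingCat.ofHom (algebraMap sq.A sq.K)) ≫ sq.str) =
      Spec.map (CommRingCat.ofHom (algebraMap e₂.A' e₂.K')) ≫
        Spec.map (CommRingCat.ofHom φ₂) ≫ Spec.map (CommRingCat.ofHom φ) ≫ sq.str := by
    spec_w
    refine spec_eq_of_eq sq.str ?_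
    exact hcommt.symm
  have hloct : IsLocalHom (φ₂.comp φ) := by
    have i1 : IsLocalHom φ := hφloc
    have i2 : IsLocalHom φ₂ := hloc₂
    exact RingHom.isLocalHom_comp _ _
  refine hasLiftExt_of_lift sq (φ₂.comp φ) (ψ₂.comp ψ) hcommt hloct wφt rfl wψt
    (l₂ ≫ pullback.fst f d) ?_ ?_
  · have e1 := congrArg (· ≫ pullback.fst f d) hl₂1'
    refine (Category.assoc _ _ _).symm.trans (e1.trans ?_)
    rw [Category.assoc, pb.lift_fst, yon_spHom_comp_assoc]
  · have e2 := congrArg (· ≫ d) hl₂2'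
    rw [Category.assoc, pb.w]
    refine (Category.assoc _ _ _).symm.trans (e2.trans ?_)
    rw [Category.assoc, hlb', yon_spHom_comp_assoc]

/-- A strict lift is a lift after the trivial extension. -/
theorem hasLiftExt_of_hasLift {F G : Sp S} {f : F ⟶ G} (sq : ValSq f) (hl : sq.HasLift) :
    sq.HasLiftExt := by
  obtain ⟨l, hl1, hl2⟩ := hl
  let e : sq.DomExt :=
    { A' := sq.A, K' := sq.K, φ := RingHom.id _, ψ := RingHom.id _, comm := rfl,
      isLocalHom := ⟨fun _ h => h⟩ }
  let φO : e.ptA' ⟶ sq.ptA := Over.homMk (Spec.map (CommRingCat.ofHom e.φ)) rfl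
  let jO' : e.ptK' ⟶ e.ptA' := Over.homMk (Spec.map (CommRingCat.ofHom (algebraMap e.A' e.K'))) rfl
  let ψO' : e.ptK' ⟶ sq.ptK := Over.homMk (Spec.map (CommRingCat.ofHom e.ψ)) (by
          change Spec.map _ ≫ Spec.map _ ≫ _ = Spec.map _ ≫ Spec.map _ ≫ _
          rw [← Spec.map_comp_assoc, ← Spec.map_comp_assoc, ← CommRingCat.ofHom_comp,
            ← CommRingCat.ofHom_comp, e.comm])
  have hjφ : jO' ≫ φO = ψO' ≫ sq.j := by
    apply Over.OverMorphism.ext
    change Spec.map _ ≫ Spec.map _ = Spec.map _ ≫ Spec.map _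
    rw [← Spec.map_comp, ← Spec.map_comp, ← CommRingCat.ofHom_comp, ← CommRingCat.ofHom_comp, e.comm]
  refine ⟨e, (yon S).map φO ≫ l, ?_, ?_⟩
  · change (yon S).map jO' ≫ (yon S).map φO ≫ l = (yon S).map ψO' ≫ sq.top
    rw [← Category.assoc, ← Functor.map_comp, hjφ, Functor.map_comp, Category.assoc, hl1]
  · rw [Category.assoc, hl2]

/-- Under the hypotheses of the refined valuative criterion, the diagonal satisfies the existence
part of the valuative criterion. -/
theorem existVC_diagonal_of_refined {U X Y : Sp S} (hU : IsAlgSpace U) (hX : IsAlgSpace X)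
    (hY : IsAlgSpace Y) (f : X ⟶ Y) (h : U ⟶ X) (hh : IsQuasiCompactMor h)
    (hd : DenseRange (Points.map h))
    (hv : ∀ sq : ValSq f, (∃ t : (yon S).obj sq.ptK ⟶ U, t ≫ h = sq.top) →
      sq.HasUniq ∧ sq.HasLiftExt) : ExistVC (pullback.diagonal f) := by
  have pbXX : IsPullback (pullback.fst f f) (pullback.snd f f) f f := IsPullback.of_hasPullback _ _
  have hXX : IsAlgSpace (pullback f f) := isAlgSpace_of_isPullback pbXX hX hY hX
  refine existVC_of_refined hU hX hXX (pullback.diagonal f) h hh hd ?_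
  rintro sq ⟨t, ht⟩
  constructor
  · intro l l' _ h2 _ h2'
    have e1 : l = (l ≫ pullback.diagonal f) ≫ pullback.fst f f := by
      rw [Category.assoc, pullback.diagonal_fst, Category.comp_id]
    have e2 : l' = (l' ≫ pullback.diagonal f) ≫ pullback.fst f f := by
      rw [Category.assoc, pullback.diagonal_fst, Category.comp_id]
    rw [e1, e2, h2, h2']
  · apply hasLiftExt_of_hasLift
    have hcomm := sq.comm
    have h1 : (yon S).map sq.j ≫ sq.bot ≫ pullback.fst f f = sq.top := by
      rw [← Category.assoc, ← hcomm, Category.assoc, pullback.diagonal_fst, Category.comp_id]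
    have h2 : (yon S).map sq.j ≫ sq.bot ≫ pullback.snd f f = sq.top := by
      rw [← Category.assoc, ← hcomm, Category.assoc, pullback.diagonal_snd, Category.comp_id]
    let sqf : ValSq f :=
      { A := sq.A, K := sq.K, str := sq.str, top := sq.top, bot := sq.bot ≫ pullback.fst f f ≫ f
        comm := by
          rw [← h1, Category.assoc, Category.assoc] }
    obtain ⟨hu, -⟩ := hv sqf ⟨t, ht⟩
    have heq : sq.bot ≫ pullback.fst f f = sq.bot ≫ pullback.snd f f :=
      hu _ _ h1 (Category.assoc _ _ _) h2 (by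
        rw [Category.assoc, ← pullback.condition])
    refine ⟨sq.bot ≫ pullback.fst f f, h1, ?_⟩
    apply pullback.hom_ext
    · rw [Category.assoc, pullback.diagonal_fst, Category.comp_id]
    · rw [Category.assoc, pullback.diagonal_snd, Category.comp_id, heq]

/-- The refined valuative criterion. -/
theorem refined_valuative {U X Y : Sp S} (hU : IsAlgSpace U) (hX : IsAlgSpace X)
    (hY : IsAlgSpace Y) (f : X ⟶ Y) (h : U ⟶ X) (hf : IsQuasiCompactMor f)
    (hh : IsQuasiCompactMor h) (hd : DenseRange (Points.map h))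
    (hv : ∀ sq : ValSq f, (∃ t : (yon S).obj sq.ptK ⟶ U, t ≫ h = sq.top) →
      sq.HasUniq ∧ sq.HasLiftExt) :
    IsUnivClosedMor f ∧ (IsQuasiSeparatedMor f → IsSeparatedMor f) := by
  refine ⟨Groth.Agent.H53.isUnivClosedMor_of_existVC f hf
    (existVC_of_refined hU hX hY f h hh hd hv), fun hqs => ?_⟩
  obtain ⟨hrep, hlft, hmono, -, -⟩ := diagonal_properties hX f
  have hE := existVC_diagonal_of_refined hU hX hY f h hh hd hv
  have hex : ExistVCStrict (pullback.diagonal f) :=
    Groth.Agent.H53.existVCStrict_of_existVC_of_representable _ hrep hE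
  refine ⟨hrep, fun T W d fst snd sq => ?_⟩
  have h1 : Mono snd.left := hmono.property d fst snd sq
  have h2 : LocallyOfFiniteType snd.left := hlft.property d fst snd sq
  have h3 : QuasiCompact snd.left := hqs.property d fst snd sq
  have h4 : ValuativeCriterion.Existence snd.left :=
    Groth.Agent.H53.existence_of_existVCStrict_yon_map snd
      (Groth.Agent.H53.existVCStrict_of_isPullback sq hex)
  exact Groth.Agent.H53.isClosedImmersion_of_existence_of_mono snd.left h4

end Groth.Agent.H53.RefVal
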