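import Groth.Agent.H53.RefVal.Alg2

set_option autoImplicit false
set_option backward.isDefEq.respectTransparency false
universe u
open IsLocalRing

namespace Groth.Agent.H53.RefVal

/-- Ring maps from a valuation subring `S ⊇ R` into a field are determined by their values on the
valuation subring `R`. -/
theorem ringHom_ext_of_le {Ω : Type u} [Field Ω] (R S : ValuationSubring Ω) (h : R ≤ S)
    {F : Type u} [Field F] (f₁ f₂ : S →+* F)
    (hf : ∀ r : R, f₁ (ValuationSubring.inclusion R S h r) = f₂ (ValuationSubring.inclusion R S h r)) :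
    f₁ = f₂ := by
  ext v
  by_cases hv : (v : Ω) ∈ R
  · exact hf ⟨(v : Ω), hv⟩
  · have hv' : (v : Ω)⁻¹ ∈ R := (R.mem_or_inv_mem (v : Ω)).resolve_left hv
    have hv0 : (v : Ω) ≠ 0 := fun h0 => hv (h0 ▸ zero_mem R)
    have hmul : v * ValuationSubring.inclusion R S h ⟨(v : Ω)⁻¹, hv'⟩ = 1 := by
      apply Subtype.ext
      change (v : Ω) * (v : Ω)⁻¹ = 1
      exact mul_inv_cancel₀ hv0
    have h1 : f₁ v * f₁ (ValuationSubring.inclusion R S h ⟨(v : Ω)⁻¹, hv'⟩) = 1 := by
      rw [← map_mul, hmul, map_one]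
    have h2 : f₂ v * f₂ (ValuationSubring.inclusion R S h ⟨(v : Ω)⁻¹, hv'⟩) = 1 := by
      rw [← map_mul, hmul, map_one]
    rw [hf] at h1
    rw [eq_inv_of_mul_eq_one_left h1, eq_inv_of_mul_eq_one_left h2]

end Groth.Agent.H53.RefVal
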