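import Groth.Agent.H53.RefVal.Chart
import Groth.Agent.H53.RefVal.Alg3

set_option autoImplicit false
set_option backward.isDefEq.respectTransparency false
universe u
open CategoryTheory CategoryTheory.Limits AlgebraicGeometry IsLocalRing
open AlgSp

namespace Groth.Agent.H53.RefVal

variable {S : Scheme.{u}} {R : Type u} [CommRing R] (sR : Spec (CommRingCat.of R) ⟶ S)

theorem hasLiftExt_of_affine_target {U X : Sp S} (hU : IsAlgSpace U) (hX : IsAlgSpace X)
    (f : X ⟶ (yon S).obj (Over.mk sR)) (h : U ⟶ X) (hh : IsQuasiCompactMor h)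
    (hd : DenseRange (Points.map h))
    (hv : ∀ sq : ValSq f, (∃ t : (yon S).obj sq.ptK ⟶ U, t ≫ h = sq.top) →
      sq.HasUniq ∧ sq.HasLiftExt) (sq : ValSq f) : sq.HasLiftExt := by
  obtain ⟨botO, hbotO⟩ := (yon S).map_surjective sq.bot
  obtain ⟨ρA, hρA, hρAeq⟩ := exists_spHom_eq botO
  -- Step 1: chart
  obtain ⟨B, _, ρB, b, K₁, _, ψ₁, μ, hμ, hbe, hbf, hbμ⟩ :=
    exists_chart_lift sR hX f sq.ptK.hom sq.top
  have hcomm : sq.top ≫ f =
      (yon S).map (spHom ((algebraMap sq.A sq.K).comp ρA) (by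
        rw [← hρA]; spec_w) : sq.ptK ⟶ Over.mk sR) := by
    rw [sq.comm, ← hbotO, ← hρAeq]
    exact yon_spHom_comp _ _ _ _
  have r1 : μ.comp ρB = ψ₁.comp ((algebraMap sq.A sq.K).comp ρA) := by
    have e1 : (yon S).map (spHom μ hμ) ≫ b ≫ f = (yon S).map (spHom ψ₁ rfl) ≫ sq.top ≫ f := by
      rw [← Category.assoc, hbμ, Category.assoc]
    rw [hbf, hcomm, yon_spHom_comp, yon_spHom_comp] at e1
    exact eq_of_yon_spHom_eq _ _ e1
  -- Step 2: a valuation ring of `K₁` dominating `A`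
  obtain ⟨A₁, hA₁, hloc₁⟩ := IsLocalRing.exists_factor_valuationRing
    (ψ₁.comp (algebraMap sq.A sq.K))
  let φ₁ : sq.A →+* A₁ := (ψ₁.comp (algebraMap sq.A sq.K)).codRestrict A₁.toSubring hA₁
  have hφ₁ : ∀ a, ((φ₁ a : A₁) : K₁) = ψ₁ (algebraMap sq.A sq.K a) := fun _ => rfl
  -- Step 3: the dense chart
  obtain ⟨B₂, _, η, c₂, hc₂, hspec⟩ := exists_dense_chart hU hX h hh hd _ b hbe
  have hqprime : (RingHom.ker μ).IsPrime := RingHom.ker_isPrime μ
  obtain ⟨q₂, hq₂⟩ := hspec ⟨RingHom.ker μ, hqprime⟩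
  let L := q₂.asIdeal.ResidueField
  let φL : B →+* L := (algebraMap B₂ L).comp η
  have hker : RingHom.ker φL ≤ RingHom.ker μ := by
    have h1 : (PrimeSpectrum.comap η q₂).asIdeal ≤ RingHom.ker μ :=
      (PrimeSpectrum.le_iff_specializes _ _).2 hq₂
    intro x hx
    apply h1
    change η x ∈ q₂.asIdeal
    rw [RingHom.mem_ker] at hx
    rw [← Ideal.ker_algebraMap_residueField q₂.asIdeal, RingHom.mem_ker]
    exact hx
  -- Step 4: the valuation ring `V`
  obtain ⟨Ω, _, ι, V, θ, ψ, hθι, hθψ⟩ := exists_valuationSubring_residue_ext μ φL hker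
  -- Step 5: the valuation ring `A₂` of the residue field and the composite
  obtain ⟨A₂, hA₂, hloc₂⟩ := IsLocalRing.exists_factor_valuationRing (ψ.comp A₁.subtype)
  let ι₁₂ : A₁ →+* A₂ := (ψ.comp A₁.subtype).codRestrict A₂.toSubring hA₂
  have hι₁₂ : ∀ a : A₁, ((ι₁₂ a : A₂) : ResidueField V) = ψ (a : K₁) := fun _ => rfl
  let C := composite V A₂
  let ρV : R →+* V := θ.comp ρB
  have hresρV : ∀ r, residue V (ρV r) = ((ι₁₂ (φ₁ (ρA r)) : A₂) : ResidueField V) := by
    intro r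
    rw [hι₁₂, hφ₁]
    change residue V (θ (ρB r)) = _
    rw [hθψ]
    congr 1
    exact congrArg (fun k : R →+* K₁ => k r) r1
  have hρVC : ∀ r, (V.subtype.comp ρV) r ∈ C.toSubring := by
    intro r
    refine (mem_composite_iff V A₂ _).2 ⟨(ρV r).2, ?_⟩
    change residue V (ρV r) ∈ A₂
    rw [hresρV]
    exact (ι₁₂ (φ₁ (ρA r))).2
  let ρC : R →+* C := (V.subtype.comp ρV).codRestrict C.toSubring hρVC
  have hρC : ∀ r, ((ρC r : C) : Ω) = ((ρV r : V) : Ω) := fun _ => rfl
  -- Step 6: the square over `C`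
  let sC : Spec (CommRingCat.of C) ⟶ S := Spec.map (CommRingCat.ofHom ρC) ≫ sR
  have r2 : (ι.comp (algebraMap B₂ L)).comp (η.comp ρB) = (algebraMap C Ω).comp ρC := by
    ext r
    change ι (φL (ρB r)) = ((ρC r : C) : Ω)
    rw [hρC, ← hθι]
    rfl
  have wt : Spec.map (CommRingCat.ofHom (ι.comp (algebraMap B₂ L))) ≫
      (Spec.map (CommRingCat.ofHom η) ≫ Spec.map (CommRingCat.ofHom ρB) ≫ sR) =
      Spec.map (CommRingCat.ofHom (algebraMap C Ω)) ≫ Spec.map (CommRingCat.ofHom ρC) ≫ sR := by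
    spec_w
    exact spec_eq_of_eq sR r2
  let t : (yon S).obj (Over.mk (Spec.map (CommRingCat.ofHom (algebraMap C Ω)) ≫ sC)) ⟶ U :=
    (yon S).map (spHom (ι.comp (algebraMap B₂ L)) wt) ≫ c₂
  have hth : t ≫ h = (yon S).map (spHom (ι.comp (algebraMap B₂ L)) wt) ≫
      (yon S).map (spHom η rfl) ≫ b := by
    rw [Category.assoc, hc₂]
  have wC : Spec.map (CommRingCat.ofHom ((algebraMap C Ω).comp ρC)) ≫ sR =
      Spec.map (CommRingCat.ofHom (algebraMap C Ω)) ≫ Spec.map (CommRingCat.ofHom ρC) ≫ sR := by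
    spec_w
  have hthf : (t ≫ h) ≫ f = (yon S).map (spHom ((algebraMap C Ω).comp ρC) wC) := by
    rw [hth, Category.assoc, Category.assoc, hbf, yon_spHom_comp, yon_spHom_comp]
    exact yon_spHom_congr _ _ r2
  let sq' : ValSq f :=
    { A := C, K := Ω, str := sC, top := t ≫ h, bot := (yon S).map (spHom ρC rfl)
      comm := by
        rw [hthf]
        exact (yon_spHom_comp ρC rfl (algebraMap C Ω) rfl).symm }
  obtain ⟨-, e', l', hl'1, hl'2⟩ := hv sq' ⟨t, rfl⟩
  -- Step 8: the extraction algebra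
  let φ' : C →+* e'.A' := e'.φ
  let ψ' : Ω →+* e'.K' := e'.ψ
  have hcomm' : ∀ c : C, algebraMap e'.A' e'.K' (φ' c) = ψ' (algebraMap C Ω c) := fun c =>
    congrArg (fun k : C →+* e'.K' => k c) e'.comm
  have hinj : Function.Injective φ' := by
    have h1 : Function.Injective ((algebraMap e'.A' e'.K').comp φ') := by
      have h2 : (algebraMap e'.A' e'.K').comp φ' = ψ'.comp (algebraMap C Ω) := e'.comm
      rw [h2]
      exact ψ'.injective.comp (IsFractionRing.injective C Ω)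
    exact Function.Injective.of_comp h1
  have hloc' : IsLocalHom φ' := e'.isLocalHom
  obtain ⟨p', hp', lam, φ₃, ρ, ρbar, hlam, hρ, hρbar, hφ₃, hφ₃ρ, hφ₃loc⟩ :=
    exists_extraction V A₂ φ' hinj
  have hVR : ValuationRing (Localization.AtPrime p') := valuationRing_localization p'
  have hVD : IsDomain (Localization.AtPrime p') :=
    IsLocalization.isDomain_localization (Ideal.primeCompl_le_nonZeroDivisors p')
  -- Step 9: the square over the localization
  let V' := Localization.AtPrime p'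
  let K'' := FractionRing e'.A'
  have hFR : IsFractionRing V' K'' :=
    inferInstanceAs (IsFractionRing (Localization.AtPrime p') (FractionRing e'.A'))
  have hg : Function.Injective (algebraMap e'.A' K'') := IsFractionRing.injective e'.A' K''
  let ω : e'.K' →+* K'' := IsFractionRing.lift hg
  have hω : ∀ c : e'.A', ω (algebraMap e'.A' e'.K' c) = algebraMap V' K'' (algebraMap e'.A' V' c) := by
    intro c
    have h1 : ω (algebraMap e'.A' e'.K' c) = algebraMap e'.A' K'' c :=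
      IsFractionRing.lift_algebraMap hg c
    rw [h1]
    exact IsScalarTower.algebraMap_apply e'.A' (Localization.AtPrime p') (FractionRing e'.A') c
  let ρV' : R →+* V' := (algebraMap e'.A' V').comp (φ'.comp ρC)
  have r3 : (ω.comp ψ').comp ((algebraMap C Ω).comp ρC) = (algebraMap V' K'').comp ρV' := by
    ext r
    change ω (ψ' (algebraMap C Ω (ρC r))) = algebraMap V' K'' (algebraMap e'.A' V' (φ' (ρC r)))
    rw [← hcomm', hω]
  have w₁ : Spec.map (CommRingCat.ofHom (ω.comp ψ')) ≫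
      (Spec.map (CommRingCat.ofHom (algebraMap C Ω)) ≫ Spec.map (CommRingCat.ofHom ρC) ≫ sR) =
      Spec.map (CommRingCat.ofHom (algebraMap V' K'')) ≫ Spec.map (CommRingCat.ofHom ρV') ≫ sR := by
    spec_w
    exact spec_eq_of_eq sR r3
  have wV' : Spec.map (CommRingCat.ofHom ((algebraMap V' K'').comp ρV')) ≫ sR =
      Spec.map (CommRingCat.ofHom (algebraMap V' K'')) ≫ Spec.map (CommRingCat.ofHom ρV') ≫ sR := by
    spec_w
  let t'' : (yon S).obj (Over.mk (Spec.map (CommRingCat.ofHom (algebraMap V' K'')) ≫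
      Spec.map (CommRingCat.ofHom ρV') ≫ sR)) ⟶ U :=
    (yon S).map (spHom (ω.comp ψ') w₁) ≫ t
  have ht''f : (t'' ≫ h) ≫ f = (yon S).map (spHom ((algebraMap V' K'').comp ρV') wV') := by
    have h1 : (t'' ≫ h) ≫ f = (yon S).map (spHom (ω.comp ψ') w₁) ≫ (t ≫ h) ≫ f := by
      simp only [t'', Category.assoc]
    rw [h1, hthf, yon_spHom_comp]
    exact yon_spHom_congr _ _ r3
  let sq'' : ValSq f :=
    { A := V', K := K'', str := Spec.map (CommRingCat.ofHom ρV') ≫ sR, top := t'' ≫ h,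
      bot := (yon S).map (spHom ρV' rfl)
      comm := by
        rw [ht''f]
        exact (yon_spHom_comp ρV' rfl (algebraMap V' K'') rfl).symm }
  obtain ⟨huniq, -⟩ := hv sq'' ⟨t'', rfl⟩
  -- the two lifts over the localization
  have wm₁ : Spec.map (CommRingCat.ofHom (algebraMap e'.A' V')) ≫
      (Spec.map (CommRingCat.ofHom φ') ≫ Spec.map (CommRingCat.ofHom ρC) ≫ sR) =
      Spec.map (CommRingCat.ofHom ρV') ≫ sR := by
    spec_w
    exact spec_eq_of_eq sR rfl
  let m₁ : (yon S).obj (Over.mk (Spec.map (CommRingCat.ofHom ρV') ≫ sR)) ⟶ X :=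
    (yon S).map (spHom (algebraMap e'.A' V') wm₁) ≫ l'
  have hρVincl : ∀ r, ρV r = ValuationSubring.inclusion _ _ (composite_le V A₂) (ρC r) :=
    fun r => Subtype.ext rfl
  have r4 : (lam.comp θ).comp ρB = ρV' := by
    ext r
    change lam (ρV r) = algebraMap e'.A' V' (φ' (ρC r))
    rw [hρVincl, hlam]
  have wlam : Spec.map (CommRingCat.ofHom lam) ≫
      (Spec.map (CommRingCat.ofHom θ) ≫ Spec.map (CommRingCat.ofHom ρB) ≫ sR) =
      Spec.map (CommRingCat.ofHom ρV') ≫ sR := by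
    spec_w
    exact spec_eq_of_eq sR r4
  let m₂ : (yon S).obj (Over.mk (Spec.map (CommRingCat.ofHom ρV') ≫ sR)) ⟶ X :=
    (yon S).map (spHom lam wlam) ≫ (yon S).map (spHom θ rfl) ≫ b
  have wψ' : Spec.map (CommRingCat.ofHom ψ') ≫
      (Spec.map (CommRingCat.ofHom (algebraMap C Ω)) ≫ Spec.map (CommRingCat.ofHom ρC) ≫ sR) =
      Spec.map (CommRingCat.ofHom (algebraMap e'.A' e'.K')) ≫
        Spec.map (CommRingCat.ofHom φ') ≫ Spec.map (CommRingCat.ofHom ρC) ≫ sR := by
    spec_w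
    refine spec_eq_of_eq sR ?_
    ext r
    exact (hcomm' (ρC r)).symm
  have hl'1' : (yon S).map (spHom (algebraMap e'.A' e'.K') rfl) ≫ l' =
      (yon S).map (spHom ψ' wψ') ≫ (t ≫ h) := hl'1
  have hl'2' : l' ≫ f = (yon S).map (spHom φ' rfl) ≫ (yon S).map (spHom ρC rfl) := hl'2
  -- (u1)
  have wω : Spec.map (CommRingCat.ofHom ω) ≫
      (Spec.map (CommRingCat.ofHom (algebraMap e'.A' e'.K')) ≫
        Spec.map (CommRingCat.ofHom φ') ≫ Spec.map (CommRingCat.ofHom ρC) ≫ sR) =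
      Spec.map (CommRingCat.ofHom (algebraMap V' K'')) ≫ Spec.map (CommRingCat.ofHom ρV') ≫ sR := by
    spec_w
    refine spec_eq_of_eq sR ?_
    ext r
    exact hω (φ' (ρC r))
  have r5 : (algebraMap V' K'').comp (algebraMap e'.A' V') = ω.comp (algebraMap e'.A' e'.K') := by
    ext c
    exact (hω c).symm
  have hu1 : (yon S).map (spHom (algebraMap V' K'') rfl) ≫ m₁ = t'' ≫ h := by
    have h1 : (yon S).map (spHom (algebraMap V' K'') rfl) ≫ m₁ =
        (yon S).map (spHom ω wω) ≫ (yon S).map (spHom (algebraMap e'.A' e'.K') rfl) ≫ l' := by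
      simp only [m₁]
      rw [yon_spHom_comp_assoc, yon_spHom_comp_assoc]
      exact congrArg (· ≫ l') (yon_spHom_congr _ _ r5)
    rw [h1, hl'1', yon_spHom_comp_assoc]
    simp only [t'', Category.assoc]
  -- (u2)
  have hu2 : m₁ ≫ f = (yon S).map (spHom ρV' rfl) := by
    simp only [m₁]
    rw [Category.assoc, hl'2', yon_spHom_comp_assoc, yon_spHom_comp]
    exact yon_spHom_congr _ _ rfl
  -- (u3)
  have hF : (algebraMap V' K'').comp lam = (ω.comp ψ').comp V.subtype := by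
    apply ringHom_ext_of_le C V (composite_le V A₂)
    intro c
    change algebraMap V' K'' (lam (ValuationSubring.inclusion _ _ (composite_le V A₂) c)) =
      ω (ψ' (algebraMap C Ω c))
    rw [hlam, ← hω, hcomm']
  have r6 : ((algebraMap V' K'').comp lam).comp θ =
      ((ω.comp ψ').comp (ι.comp (algebraMap B₂ L))).comp η := by
    ext x
    change ((algebraMap V' K'').comp lam) (θ x) = ω (ψ' (ι (φL x)))
    rw [hF, ← hθι]
    rfl
  have hu3 : (yon S).map (spHom (algebraMap V' K'') rfl) ≫ m₂ = t'' ≫ h := by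
    have h1 : t'' ≫ h = (yon S).map (spHom (ω.comp ψ') w₁) ≫ (t ≫ h) := by
      simp only [t'', Category.assoc]
    rw [h1, hth]
    simp only [m₂]
    rw [yon_spHom_comp_assoc, yon_spHom_comp_assoc, yon_spHom_comp_assoc, yon_spHom_comp_assoc]
    exact congrArg (· ≫ b) (yon_spHom_congr _ _ r6)
  -- (u4)
  have hu4 : m₂ ≫ f = (yon S).map (spHom ρV' rfl) := by
    simp only [m₂]
    rw [Category.assoc, Category.assoc, hbf, yon_spHom_comp, yon_spHom_comp]
    exact yon_spHom_congr _ _ r4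
  have hm : m₁ = m₂ := huniq m₁ m₂ hu1 hu2 hu3 hu4
  -- Step 10: the extension of the original square
  have hA₃D : IsDomain (e'.A' ⧸ p') := Ideal.Quotient.isDomain p'
  have hA₃V : ValuationRing (e'.A' ⧸ p') :=
    Function.Surjective.valuationRing (Ideal.Quotient.mk p') Ideal.Quotient.mk_surjective
  let A₃ := e'.A' ⧸ p'
  let K₃ := FractionRing (e'.A' ⧸ p')
  let φfin : sq.A →+* A₃ := φ₃.comp (ι₁₂.comp φ₁)
  let ψfin : sq.K →+* K₃ := (ρbar.comp ψ).comp ψ₁
  have hfincomm : (algebraMap A₃ K₃).comp φfin = ψfin.comp (algebraMap sq.A sq.K) := by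
    ext a
    change algebraMap A₃ K₃ (φ₃ (ι₁₂ (φ₁ a))) = ρbar (ψ (ψ₁ (algebraMap sq.A sq.K a)))
    rw [hφ₃ρ, hι₁₂, hφ₁]
  have hfinloc : IsLocalHom φfin := by
    have i1 : IsLocalHom φ₁ := hloc₁
    have i2 : IsLocalHom ι₁₂ := hloc₂
    have i3 : IsLocalHom φ₃ := hφ₃loc
    have i4 : IsLocalHom (ι₁₂.comp φ₁) := RingHom.isLocalHom_comp _ _
    exact RingHom.isLocalHom_comp _ _
  let e₃ : sq.DomExt :=
    { A' := A₃, K' := K₃, φ := φfin, ψ := ψfin, comm := hfincomm, isLocalHom := hfinloc }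
  have hcompRes : ∀ r, compRes V A₂ (ρC r) = ι₁₂ (φ₁ (ρA r)) := by
    intro r
    apply Subtype.ext
    rw [compRes_coe, ← hρVincl, hresρV]
  have r7 : ((Ideal.Quotient.mk p').comp φ').comp ρC = φfin.comp ρA := by
    ext r
    change Ideal.Quotient.mk p' (φ' (ρC r)) = φ₃ (ι₁₂ (φ₁ (ρA r)))
    rw [← hφ₃, hcompRes]
  have wmk : Spec.map (CommRingCat.ofHom (Ideal.Quotient.mk p')) ≫
      (Spec.map (CommRingCat.ofHom φ') ≫ Spec.map (CommRingCat.ofHom ρC) ≫ sR) =
      Spec.map (CommRingCat.ofHom φfin) ≫ sq.str := by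
    rw [← hρA]
    spec_w
    exact spec_eq_of_eq sR r7
  refine ⟨e₃, (yon S).map (spHom (Ideal.Quotient.mk p') wmk) ≫ l', ?_, ?_⟩
  · -- the generic point
    have r8 : (algebraMap A₃ K₃).comp (Ideal.Quotient.mk p') = ρ.comp (algebraMap e'.A' V') := by
      ext c
      exact (hρ c).symm
    have r9 : ρ.comp ρV' = ((algebraMap A₃ K₃).comp φfin).comp ρA := by
      ext r
      change ρ (algebraMap e'.A' V' (φ' (ρC r))) = algebraMap A₃ K₃ (φfin (ρA r))
      rw [hρ]
      congr 1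
      exact congrArg (fun k : R →+* A₃ => k r) r7
    have wρ : Spec.map (CommRingCat.ofHom ρ) ≫ (Spec.map (CommRingCat.ofHom ρV') ≫ sR) =
        Spec.map (CommRingCat.ofHom (algebraMap A₃ K₃)) ≫
          Spec.map (CommRingCat.ofHom φfin) ≫ sq.str := by
      rw [← hρA]
      spec_w
      exact spec_eq_of_eq sR r9
    have r10 : (ρ.comp lam).comp θ = (ρbar.comp ψ).comp μ := by
      ext x
      change ρ (lam (θ x)) = ρbar (ψ (μ x))
      rw [← hρbar, hθψ]
    have w' : Spec.map (CommRingCat.ofHom (ρbar.comp ψ)) ≫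
        (Spec.map (CommRingCat.ofHom ψ₁) ≫
          Spec.map (CommRingCat.ofHom (algebraMap sq.A sq.K)) ≫ sq.str) =
        Spec.map (CommRingCat.ofHom (algebraMap A₃ K₃)) ≫
          Spec.map (CommRingCat.ofHom φfin) ≫ sq.str := by
      rw [← hρA]
      spec_w
      refine spec_eq_of_eq sR ?_
      rw [← RingHom.comp_assoc, ← RingHom.comp_assoc, ← RingHom.comp_assoc, hfincomm]
    have wψfin : Spec.map (CommRingCat.ofHom ψfin) ≫
        (Spec.map (CommRingCat.ofHom (algebraMap sq.A sq.K)) ≫ sq.str) =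
        Spec.map (CommRingCat.ofHom (algebraMap A₃ K₃)) ≫
          Spec.map (CommRingCat.ofHom φfin) ≫ sq.str := by
      rw [← hρA]
      spec_w
      refine spec_eq_of_eq sR ?_
      rw [← RingHom.comp_assoc, ← RingHom.comp_assoc, hfincomm]
    have hL : (yon S).map (spHom (algebraMap A₃ K₃) rfl) ≫
        (yon S).map (spHom (Ideal.Quotient.mk p') wmk) ≫ l' =
        (yon S).map (spHom ((ρ.comp lam).comp θ) (spHom_comp_w θ rfl (ρ.comp lam)
          (spHom_comp_w lam wlam ρ wρ))) ≫ b := by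
      have h1 : (yon S).map (spHom (algebraMap A₃ K₃) rfl) ≫
          (yon S).map (spHom (Ideal.Quotient.mk p') wmk) ≫ l' =
          (yon S).map (spHom ρ wρ) ≫ m₁ := by
        simp only [m₁]
        rw [yon_spHom_comp_assoc, yon_spHom_comp_assoc]
        exact congrArg (· ≫ l') (yon_spHom_congr _ _ r8)
      rw [h1, hm]
      simp only [m₂]
      rw [yon_spHom_comp_assoc, yon_spHom_comp_assoc]
    have hR : (yon S).map (spHom ψfin wψfin) ≫ sq.top =
        (yon S).map (spHom ((ρbar.comp ψ).comp μ) (spHom_comp_w μ hμ (ρbar.comp ψ) w')) ≫ b := by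
      have h1 : (yon S).map (spHom ψfin wψfin) =
          (yon S).map (spHom (ρbar.comp ψ) w') ≫ (yon S).map (spHom ψ₁ rfl) := by
        rw [yon_spHom_comp]
      rw [h1, Category.assoc, ← hbμ, yon_spHom_comp_assoc]
    change (yon S).map (spHom (algebraMap A₃ K₃) rfl) ≫
        (yon S).map (spHom (Ideal.Quotient.mk p') wmk) ≫ l' =
      (yon S).map (spHom ψfin wψfin) ≫ sq.top
    rw [hL, hR]
    exact congrArg (· ≫ b) (yon_spHom_congr _ _ r10)
  · -- the bottom arrow
    change ((yon S).map (spHom (Ideal.Quotient.mk p') wmk) ≫ l') ≫ f =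
      (yon S).map (spHom φfin rfl) ≫ sq.bot
    rw [Category.assoc, hl'2', ← hbotO, ← hρAeq, yon_spHom_comp_assoc, yon_spHom_comp,
      yon_spHom_comp]
    exact yon_spHom_congr _ _ r7

end Groth.Agent.H53.RefVal
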