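import Mathlib

set_option autoImplicit false
set_option backward.isDefEq.respectTransparency false
universe u
open IsLocalRing

namespace Groth.Agent.H53.RefVal

section Comp
variable {Ω : Type u} [Field Ω]

/-- The composite of a valuation subring `V` of `Ω` with a valuation subring `A₂` of the residue
field of `V`: the elements of `V` whose residue lies in `A₂`. -/
def composite (V : ValuationSubring Ω) (A₂ : ValuationSubring (ResidueField V)) :
    ValuationSubring Ω where
  toSubring := (A₂.toSubring.comap (residue V)).map V.subtype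
  mem_or_inv_mem' := by
    have key : ∀ x : Ω, x ∈ V →
        x ∈ (A₂.toSubring.comap (residue V)).map V.subtype ∨
          x⁻¹ ∈ (A₂.toSubring.comap (residue V)).map V.subtype := by
      intro x hx
      by_cases hu : IsUnit (⟨x, hx⟩ : V)
      · obtain ⟨w, hw⟩ := hu
        rcases A₂.mem_or_inv_mem (residue V (w : V)) with h | h
        · left
          exact ⟨(w : V), h, by rw [hw]; rfl⟩
        · right
          refine ⟨((w⁻¹ : Vˣ) : V), ?_, ?_⟩
          · change residue V ((w⁻¹ : Vˣ) : V) ∈ A₂
            have : residue V ((w⁻¹ : Vˣ) : V) = (residue V (w : V))⁻¹ := by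
              symm
              apply inv_eq_of_mul_eq_one_left
              rw [← map_mul, Units.inv_mul, map_one]
            rw [this]
            exact h
          · have h1 : (((w⁻¹ : Vˣ) : V) : Ω) * x = 1 := by
              have h2 : ((w⁻¹ : Vˣ) : V) * (w : V) = 1 := Units.inv_mul w
              have h3 := congrArg (fun v : V => (v : Ω)) h2
              simp only [MulMemClass.coe_mul, OneMemClass.coe_one] at h3
              rw [hw] at h3
              exact h3
            exact (eq_inv_of_mul_eq_one_left h1)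
      · left
        refine ⟨⟨x, hx⟩, ?_, rfl⟩
        change residue V ⟨x, hx⟩ ∈ A₂
        have : residue V ⟨x, hx⟩ = 0 := by
          rw [IsLocalRing.residue_eq_zero_iff]
          exact (IsLocalRing.mem_maximalIdeal _).2 hu
        rw [this]
        exact zero_mem _
    intro x
    rcases V.mem_or_inv_mem x with hx | hx
    · exact key x hx
    · rcases key x⁻¹ hx with h | h
      · exact Or.inr h
      · rw [inv_inv] at h
        exact Or.inl h

theorem mem_composite_iff (V : ValuationSubring Ω) (A₂ : ValuationSubring (ResidueField V))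
    (x : Ω) : x ∈ composite V A₂ ↔ ∃ hx : x ∈ V, residue V ⟨x, hx⟩ ∈ A₂ := by
  constructor
  · rintro ⟨y, hy, rfl⟩
    exact ⟨y.2, hy⟩
  · rintro ⟨hx, h⟩
    exact ⟨⟨x, hx⟩, h, rfl⟩

theorem composite_le (V : ValuationSubring Ω) (A₂ : ValuationSubring (ResidueField V)) :
    composite V A₂ ≤ V := fun x hx => ((mem_composite_iff V A₂ x).1 hx).1

/-- The residue map from the composite to `A₂`. -/
noncomputable def compRes (V : ValuationSubring Ω) (A₂ : ValuationSubring (ResidueField V)) :
    composite V A₂ →+* A₂ :=
  ((residue V).comp (ValuationSubring.inclusion _ _ (composite_le V A₂))).codRestrict A₂.toSubring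
    (fun x => by
      obtain ⟨hx, h⟩ := (mem_composite_iff V A₂ x.1).1 x.2
      exact h)

theorem compRes_coe (V : ValuationSubring Ω) (A₂ : ValuationSubring (ResidueField V))
    (x : composite V A₂) :
    ((compRes V A₂ x : A₂) : ResidueField V) =
      residue V (ValuationSubring.inclusion _ _ (composite_le V A₂) x) := rfl

theorem compRes_surjective (V : ValuationSubring Ω) (A₂ : ValuationSubring (ResidueField V)) :
    Function.Surjective (compRes V A₂) := by
  intro a
  obtain ⟨y, hy⟩ := IsLocalRing.residue_surjective (a : ResidueField V)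
  have hyC : (y : Ω) ∈ composite V A₂ := (mem_composite_iff V A₂ _).2 ⟨y.2, by
    have : (⟨(y : Ω), y.2⟩ : V) = y := rfl
    rw [this, hy]; exact a.2⟩
  refine ⟨⟨y, hyC⟩, ?_⟩
  apply Subtype.ext
  rw [compRes_coe]
  exact hy

theorem compRes_eq_zero_iff (V : ValuationSubring Ω) (A₂ : ValuationSubring (ResidueField V))
    (x : composite V A₂) :
    compRes V A₂ x = 0 ↔
      ValuationSubring.inclusion _ _ (composite_le V A₂) x ∈ maximalIdeal V := by
  rw [← IsLocalRing.residue_eq_zero_iff, ← compRes_coe]
  constructor
  · intro h; rw [h]; rfl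
  · intro h; exact Subtype.ext h


end Comp


/-- A valuation subring `S` containing a valuation subring `R` is the localization of `R` at the
prime `m_S ∩ R`. -/
theorem isLocalization_of_le {Ω : Type u} [Field Ω] (R S : ValuationSubring Ω) (h : R ≤ S) :
    @IsLocalization.AtPrime R _ S _ (ValuationSubring.inclusion R S h).toAlgebra
      ((maximalIdeal S).comap (ValuationSubring.inclusion R S h)) _ := by
  let _ : Algebra R S := (ValuationSubring.inclusion R S h).toAlgebra
  have halg : ∀ r : R, algebraMap R S r = ValuationSubring.inclusion R S h r := fun _ => rfl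
  refine ⟨⟨?_, ?_, ?_⟩⟩
  · rintro ⟨y, hy⟩
    rw [halg]
    by_contra hnu
    exact hy ((IsLocalRing.mem_maximalIdeal _).2 hnu)
  · intro z
    by_cases hz : (z : Ω) ∈ R
    · refine ⟨(⟨(z : Ω), hz⟩, 1), ?_⟩
      simp only [OneMemClass.coe_one, map_one, mul_one]
      rw [halg]
      rfl
    · have hz' : (z : Ω)⁻¹ ∈ R := (R.mem_or_inv_mem (z : Ω)).resolve_left hz
      have hz0 : (z : Ω) ≠ 0 := fun h0 => hz (h0 ▸ zero_mem R)
      have hmul : z * ValuationSubring.inclusion R S h ⟨(z : Ω)⁻¹, hz'⟩ = 1 := by
        apply Subtype.ext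
        change (z : Ω) * (z : Ω)⁻¹ = 1
        exact mul_inv_cancel₀ hz0
      have hw : (⟨(z : Ω)⁻¹, hz'⟩ : R) ∈
          ((maximalIdeal S).comap (ValuationSubring.inclusion R S h)).primeCompl := by
        intro hmem
        have hmem' : ValuationSubring.inclusion R S h ⟨(z : Ω)⁻¹, hz'⟩ ∈ maximalIdeal S := hmem
        exact (IsLocalRing.mem_maximalIdeal _).1 hmem' (IsUnit.of_mul_eq_one _ (by
          rw [mul_comm]; exact hmul))
      refine ⟨(1, ⟨⟨(z : Ω)⁻¹, hz'⟩, hw⟩), ?_⟩
      simp only [map_one]
      rw [halg]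
      exact hmul
  · intro x y hxy
    refine ⟨1, ?_⟩
    simp only [OneMemClass.coe_one, one_mul]
    rw [halg, halg] at hxy
    apply Subtype.ext
    exact congrArg (fun s : S => (s : Ω)) hxy

/-- Localizations of valuation rings at primes are valuation rings. -/
theorem valuationRing_localization {C : Type u} [CommRing C] [IsDomain C] [ValuationRing C]
    (p : Ideal C) [p.IsPrime] : ValuationRing (Localization.AtPrime p) := by
  have hd : IsDomain (Localization.AtPrime p) :=
    IsLocalization.isDomain_localization (Ideal.primeCompl_le_nonZeroDivisors p)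
  rw [ValuationRing.iff_dvd_total]
  refine ⟨fun x y => ?_⟩
  obtain ⟨a, s, rfl⟩ := IsLocalization.exists_mk'_eq p.primeCompl x
  obtain ⟨b, t, rfl⟩ := IsLocalization.exists_mk'_eq p.primeCompl y
  rcases ValuationRing.dvd_total a b with ⟨c, rfl⟩ | ⟨c, rfl⟩
  · left
    refine ⟨IsLocalization.mk' _ (c * s) t, ?_⟩
    rw [← IsLocalization.mk'_mul]
    rw [IsLocalization.mk'_eq_iff_eq]
    congr 1
    simp only [Submonoid.coe_mul]
    ring
  · right
    refine ⟨IsLocalization.mk' _ (c * t) s, ?_⟩
    rw [← IsLocalization.mk'_mul]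
    rw [IsLocalization.mk'_eq_iff_eq]
    congr 1
    simp only [Submonoid.coe_mul]
    ring

/-- Primes lift along an injective local homomorphism from a valuation ring to a domain. -/
theorem exists_prime_comap_eq {C C' : Type u} [CommRing C] [IsDomain C] [ValuationRing C]
    [CommRing C'] [IsDomain C'] [IsLocalRing C'] (φ : C →+* C') (hφ : Function.Injective φ)
    [IsLocalHom φ] (p : Ideal C) [p.IsPrime] :
    ∃ p' : Ideal C', p'.IsPrime ∧ p'.comap φ = p := by
  let _ : Algebra C C' := φ.toAlgebra
  have hflat : Module.Flat C C' := by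
    rw [Module.Flat.flat_iff_torsion_eq_bot_of_isBezout, Submodule.eq_bot_iff]
    intro b hb
    rw [Submodule.mem_torsion_iff] at hb
    obtain ⟨⟨a, ha⟩, hab⟩ := hb
    have h1 : φ a * b = 0 := hab
    have ha0 : a ≠ 0 := nonZeroDivisors.ne_zero ha
    have h2 : φ a ≠ 0 := fun h0 => ha0 (hφ (by rw [h0, map_zero]))
    exact (mul_eq_zero.1 h1).resolve_left h2
  have hgen : GeneralizingMap (PrimeSpectrum.comap (algebraMap C C')) :=
    RingHom.Flat.generalizingMap_comap (f := algebraMap C C')
      (RingHom.flat_algebraMap_iff.2 inferInstance)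
  have hcl : PrimeSpectrum.comap (algebraMap C C') (closedPoint C') = closedPoint C :=
    IsLocalRing.comap_closedPoint φ
  have hspec : (⟨p, inferInstance⟩ : PrimeSpectrum C) ⤳
      PrimeSpectrum.comap (algebraMap C C') (closedPoint C') := by
    rw [hcl]
    exact IsLocalRing.specializes_closedPoint _
  obtain ⟨u', -, hu'⟩ := hgen hspec
  exact ⟨u'.asIdeal, u'.isPrime, congrArg PrimeSpectrum.asIdeal hu'⟩



/-- Given ring maps `φK : B → K₁` and `φL : B → L` to fields with `ker φL ≤ ker φK`, there is a
valuation ring `V` of an extension `Ω` of `L` receiving `B` compatibly with `φL`, whose residue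
field extends `K₁` compatibly with `φK`. -/
theorem exists_valuationSubring_residue_ext {B K₁ L : Type u} [CommRing B] [Field K₁] [Field L]
    (φK : B →+* K₁) (φL : B →+* L) (hker : RingHom.ker φL ≤ RingHom.ker φK) :
    ∃ (Ω : Type u) (_ : Field Ω) (ι : L →+* Ω) (V : ValuationSubring Ω) (θ : B →+* V)
      (ψ : K₁ →+* ResidueField V),
      (∀ b, ((θ b : V) : Ω) = ι (φL b)) ∧ (∀ b, residue V (θ b) = ψ (φK b)) := by
  let P := MvPolynomial K₁ L
  let Ω := FractionRing P
  let E := MvPolynomial K₁ B
  let ev : E →+* K₁ := MvPolynomial.eval₂Hom φK id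
  let g : E →+* Ω := (algebraMap P Ω).comp (MvPolynomial.map φL)
  have hev : Function.Surjective ev := fun t => ⟨MvPolynomial.X t, by
    change MvPolynomial.eval₂ φK id (MvPolynomial.X t) = t
    rw [MvPolynomial.eval₂_X]; rfl⟩
  have hg : ∀ p : E, g p = 0 → ev p = 0 := by
    intro p hp
    have h1 : MvPolynomial.map φL p = 0 := by
      apply IsFractionRing.injective P Ω
      rw [map_zero]
      exact hp
    have h2 : ∀ m, MvPolynomial.coeff m p ∈ RingHom.ker φK := by
      intro m
      apply hker
      rw [RingHom.mem_ker, ← MvPolynomial.coeff_map, h1, MvPolynomial.coeff_zero]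
    change MvPolynomial.eval₂ φK id p = 0
    rw [MvPolynomial.eval₂_eq]
    apply Finset.sum_eq_zero
    intro d _
    rw [(RingHom.mem_ker).1 (h2 d), zero_mul]
  let M : Ideal E := RingHom.ker ev
  have hMmax : M.IsMaximal := RingHom.ker_isMaximal_of_surjective ev hev
  have hMprime : M.IsPrime := hMmax.isPrime
  have hunits : ∀ y : M.primeCompl, IsUnit (g y) := by
    rintro ⟨y, hy⟩
    apply IsUnit.mk0
    intro h0
    exact hy ((RingHom.mem_ker).2 (hg y h0))
  let g' : Localization.AtPrime M →+* Ω := IsLocalization.lift hunits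
  have hg' : ∀ x : E, g' (algebraMap E (Localization.AtPrime M) x) = g x :=
    fun x => IsLocalization.lift_eq hunits x
  obtain ⟨V, hV, hloc⟩ := IsLocalRing.exists_factor_valuationRing g'
  let θ' : Localization.AtPrime M →+* V := g'.codRestrict V.toSubring hV
  have hθ' : ∀ x, ((θ' x : V) : Ω) = g' x := fun _ => rfl
  let θE : E →+* V := θ'.comp (algebraMap E (Localization.AtPrime M))
  have hkerθ : RingHom.ker ev ≤ RingHom.ker ((residue V).comp θE) := by
    intro x hx
    rw [RingHom.mem_ker, RingHom.comp_apply, IsLocalRing.residue_eq_zero_iff]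
    have h1 : algebraMap E (Localization.AtPrime M) x ∈
        maximalIdeal (Localization.AtPrime M) := by
      exact (IsLocalization.AtPrime.to_map_mem_maximal_iff (Localization.AtPrime M) M x).2 hx
    rw [IsLocalRing.mem_maximalIdeal, mem_nonunits_iff] at h1 ⊢
    intro hu
    exact h1 (hloc.map_nonunit _ hu)
  let ψ : K₁ →+* ResidueField V := RingHom.liftOfSurjective ev hev ⟨(residue V).comp θE, hkerθ⟩
  have hψ : ∀ x : E, ψ (ev x) = residue V (θE x) := fun x =>
    RingHom.liftOfRightInverse_comp_apply ev _ (Function.rightInverse_surjInv hev)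
      ⟨(residue V).comp θE, hkerθ⟩ x
  refine ⟨Ω, inferInstance, (algebraMap P Ω).comp MvPolynomial.C, V,
    θE.comp MvPolynomial.C, ψ, ?_, ?_⟩
  · intro b
    change ((θ' (algebraMap E (Localization.AtPrime M) (MvPolynomial.C b)) : V) : Ω) = _
    rw [hθ', hg']
    change algebraMap P Ω (MvPolynomial.map φL (MvPolynomial.C b)) = _
    rw [MvPolynomial.map_C]
    rfl
  · intro b
    change residue V (θE (MvPolynomial.C b)) = _
    rw [← hψ]
    congr 1
    change MvPolynomial.eval₂ φK id (MvPolynomial.C b) = φK b
    rw [MvPolynomial.eval₂_C]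


end Groth.Agent.H53.RefVal
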