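import Groth.Agent.H53.RefVal.Alg

set_option autoImplicit false
set_option backward.isDefEq.respectTransparency false
universe u
open IsLocalRing

namespace Groth.Agent.H53.RefVal

/-- The algebra behind the extraction step: for an injective local homomorphism from the composite
`C` of `V` and `A₂` to a valuation ring `C'`, there is a prime `p'` of `C'` such that `C'_{p'}`
receives `V` and `C'/p'` receives `A₂`, compatibly. -/
theorem exists_extraction {Ω : Type u} [Field Ω] (V : ValuationSubring Ω)
    (A₂ : ValuationSubring (ResidueField V)) {C' : Type u} [CommRing C'] [IsDomain C']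
    [ValuationRing C'] (φ' : composite V A₂ →+* C') (hinj : Function.Injective φ')
    [IsLocalHom φ'] :
    ∃ (p' : Ideal C') (_ : p'.IsPrime) (lam : V →+* Localization.AtPrime p')
      (φ₃ : A₂ →+* C' ⧸ p') (ρ : Localization.AtPrime p' →+* FractionRing (C' ⧸ p'))
      (ρbar : ResidueField V →+* FractionRing (C' ⧸ p')),
      (∀ c, lam (ValuationSubring.inclusion _ _ (composite_le V A₂) c) =
        algebraMap C' (Localization.AtPrime p') (φ' c)) ∧
      (∀ c', ρ (algebraMap C' (Localization.AtPrime p') c') =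
        algebraMap (C' ⧸ p') (FractionRing (C' ⧸ p')) (Ideal.Quotient.mk p' c')) ∧
      (∀ v, ρbar (residue V v) = ρ (lam v)) ∧
      (∀ c, φ₃ (compRes V A₂ c) = Ideal.Quotient.mk p' (φ' c)) ∧
      (∀ a : A₂, algebraMap (C' ⧸ p') (FractionRing (C' ⧸ p')) (φ₃ a) =
        ρbar (a : ResidueField V)) ∧
      IsLocalHom φ₃ := by
  let C := composite V A₂
  let incl : C →+* V := ValuationSubring.inclusion _ _ (composite_le V A₂)
  let p : Ideal C := (maximalIdeal V).comap incl
  have hpker : ∀ c : C, c ∈ p ↔ compRes V A₂ c = 0 := fun c =>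
    (compRes_eq_zero_iff V A₂ c).symm
  obtain ⟨p', hp', hcomap⟩ := exists_prime_comap_eq φ' hinj p
  have hmem : ∀ c : C, φ' c ∈ p' ↔ c ∈ p := fun c => by
    rw [← hcomap]; rfl
  let K₃ := FractionRing (C' ⧸ p')
  -- the map from the localization to the fraction field of the quotient
  have hunits : ∀ y : p'.primeCompl,
      IsUnit (((algebraMap (C' ⧸ p') K₃).comp (Ideal.Quotient.mk p')) y) := by
    rintro ⟨y, hy⟩
    apply IsUnit.mk0
    intro h0
    apply hy
    have h1 : Ideal.Quotient.mk p' y = 0 := by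
      apply IsFractionRing.injective (C' ⧸ p') K₃
      rw [map_zero]
      exact h0
    exact Ideal.Quotient.eq_zero_iff_mem.1 h1
  let ρ : Localization.AtPrime p' →+* K₃ := IsLocalization.lift hunits
  have hρ : ∀ c', ρ (algebraMap C' (Localization.AtPrime p') c') =
      algebraMap (C' ⧸ p') K₃ (Ideal.Quotient.mk p' c') := fun c' =>
    IsLocalization.lift_eq hunits c'
  -- the map from `V` to the localization
  let algCV : Algebra C V := incl.toAlgebra
  have hloc : @IsLocalization.AtPrime C _ V _ algCV p _ := isLocalization_of_le C V (composite_le V A₂)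
  have hy : p.primeCompl ≤ p'.primeCompl.comap φ' := by
    intro c hc hc'
    exact hc ((hmem c).1 hc')
  let lam : V →+* Localization.AtPrime p' :=
    @IsLocalization.map C _ p.primeCompl V _ algCV C' _ hloc p'.primeCompl
      (Localization.AtPrime p') _ _ _ φ' hy
  have hlam : ∀ c, lam (incl c) = algebraMap C' (Localization.AtPrime p') (φ' c) := fun c =>
    @IsLocalization.map_eq C _ p.primeCompl V _ algCV C' _ hloc φ' p'.primeCompl
      (Localization.AtPrime p') _ _ _ hy c
  -- elements of the maximal ideal of `V` lie in `C`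
  have hmC : ∀ v : V, v ∈ maximalIdeal V → ∃ c : C, incl c = v ∧ c ∈ p := by
    intro v hv
    have hvC : (v : Ω) ∈ C := (mem_composite_iff V A₂ _).2 ⟨v.2, by
      have : (⟨(v : Ω), v.2⟩ : V) = v := rfl
      rw [this, (IsLocalRing.residue_eq_zero_iff v).2 hv]
      exact zero_mem _⟩
    exact ⟨⟨v, hvC⟩, rfl, hv⟩
  have hkill : ∀ v : V, v ∈ maximalIdeal V → (ρ.comp lam) v = 0 := by
    intro v hv
    obtain ⟨c, rfl, hc⟩ := hmC v hv
    rw [RingHom.comp_apply, hlam, hρ]
    have : Ideal.Quotient.mk p' (φ' c) = 0 := Ideal.Quotient.eq_zero_iff_mem.2 ((hmem c).2 hc)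
    rw [this, map_zero]
  let ρbar : ResidueField V →+* K₃ := Ideal.Quotient.lift (maximalIdeal V) (ρ.comp lam) hkill
  have hρbar : ∀ v, ρbar (residue V v) = ρ (lam v) := fun v =>
    Ideal.Quotient.lift_mk (maximalIdeal V) (ρ.comp lam) hkill
  -- the map from `A₂` to the quotient
  have hker : RingHom.ker (compRes V A₂) ≤ RingHom.ker ((Ideal.Quotient.mk p').comp φ') := by
    intro c hc
    rw [RingHom.mem_ker] at hc ⊢
    rw [RingHom.comp_apply]
    exact Ideal.Quotient.eq_zero_iff_mem.2 ((hmem c).2 ((hpker c).2 hc))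
  let φ₃ : A₂ →+* C' ⧸ p' :=
    RingHom.liftOfSurjective (compRes V A₂) (compRes_surjective V A₂)
      ⟨(Ideal.Quotient.mk p').comp φ', hker⟩
  have hφ₃ : ∀ c, φ₃ (compRes V A₂ c) = Ideal.Quotient.mk p' (φ' c) := fun c =>
    RingHom.liftOfRightInverse_comp_apply (compRes V A₂) _
      (Function.rightInverse_surjInv (compRes_surjective V A₂))
      ⟨(Ideal.Quotient.mk p').comp φ', hker⟩ c
  refine ⟨p', hp', lam, φ₃, ρ, ρbar, hlam, hρ, hρbar, hφ₃, ?_, ?_⟩
  · intro a
    obtain ⟨c, rfl⟩ := compRes_surjective V A₂ a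
    rw [hφ₃, ← hρ, ← hlam, ← hρbar, compRes_coe]
  · refine ⟨fun a ha => ?_⟩
    obtain ⟨c, rfl⟩ := compRes_surjective V A₂ a
    rw [hφ₃] at ha
    have h1 : IsLocalHom (Ideal.Quotient.mk p') :=
      IsLocalHom.of_surjective _ Ideal.Quotient.mk_surjective
    have h2 : IsUnit (φ' c) := h1.map_nonunit _ ha
    have h3 : IsUnit c := IsLocalHom.map_nonunit (f := φ') c h2
    exact h3.map (compRes V A₂)

end Groth.Agent.H53.RefVal
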