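import Groth.Agent.H53.RefVal.SpHom
import Groth.Agent.H52.UCAssembly
import Groth.Agent.H52.Points
import Groth.Agent.H52.QC
import Groth.Agent.H53.FibreHomeo
import Groth.Agent.H53.SpTop
import Groth.Agent.Lib.Helper78.QCSpecialize

set_option autoImplicit false
set_option backward.isDefEq.respectTransparency false
universe u
open CategoryTheory CategoryTheory.Limits AlgebraicGeometry IsLocalRing
open AlgSp

namespace Groth.Agent.H53.RefVal

open Groth.Agent.H52.UC Groth.Agent.H52

section G1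
variable {S : Scheme.{u}} {R : Type u} [CommRing R] (sR : Spec (CommRingCat.of R) ⟶ S)

/-- A field-valued point of an algebraic space over `Spec R` lifts, after a field extension, to an
affine étale chart in normal form. -/
theorem exists_chart_lift {X : Sp S} (hX : IsAlgSpace X) (f : X ⟶ (yon S).obj (Over.mk sR))
    {K : Type u} [Field K] (sK : Spec (CommRingCat.of K) ⟶ S)
    (top : (yon S).obj (Over.mk sK) ⟶ X) :
    ∃ (B : Type u) (_ : CommRing B) (ρB : R →+* B)
      (b : (yon S).obj (Over.mk (Spec.map (CommRingCat.ofHom ρB) ≫ sR)) ⟶ X)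
      (K₁ : Type u) (_ : Field K₁) (ψ₁ : K →+* K₁) (μ : B →+* K₁)
      (hμ : Spec.map (CommRingCat.ofHom μ) ≫ (Spec.map (CommRingCat.ofHom ρB) ≫ sR) =
        Spec.map (CommRingCat.ofHom ψ₁) ≫ sK),
      RepWith @Etale b ∧ b ≫ f = (yon S).map (spHom ρB rfl) ∧
      (yon S).map (spHom μ hμ) ≫ b = (yon S).map (spHom ψ₁ rfl) ≫ top := by
  have hE : (RepWith (S := S) @Etale).IsMultiplicative := repWith_isMultiplicative _
  obtain ⟨W, b₀, w, hWaff, hb₀, hw⟩ :=
    Groth.Agent.H53.FibrePts.exists_affine_chart hX (Points.ofPt top (closedPoint K))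
  have _ : IsAffine W.left := hWaff
  obtain ⟨B, _, _, eW, heW⟩ := exists_ZA_iso sR W ((yon S).preimage (b₀ ≫ f))
  have hiso : Etale eW.hom.left := inferInstance
  let b : (yon S).obj (ZA sR B) ⟶ X := (yon S).map eW.hom ≫ b₀
  have hbe : RepWith @Etale b := hE.comp_mem _ _ ((repWith_yon_map_iff _ _).2 hiso) hb₀
  have hbf : b ≫ f = (yon S).map (gA sR B) := by
    rw [← heW, Functor.map_comp, Functor.map_preimage, Category.assoc]
  -- the pullback of the chart to `Spec K`
  have sqK := hbe.rep.isPullback top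
  have hqKs : Etale (hbe.rep.snd top).left := hbe.property_snd top
  obtain ⟨pK, hpK⟩ := (yon S).map_surjective (hbe.rep.fst top)
  let w' : ↥(ZA sR B).left := eW.inv.left w
  have hw' : Points.ofPt b w' = Points.ofPt top (closedPoint K) := by
    rw [Groth.Agent.H53.FibrePts.ofPt_yon_map_comp, ← hw]
    congr 1
    change (eW.inv.left ≫ eW.hom.left) w = w
    rw [← Over.comp_left, Iso.inv_hom_id]
    rfl
  obtain ⟨z, hz1, hz2⟩ := exists_point_of_isPullback sqK (Points.ofScheme _ w')
    (Points.ofScheme _ (closedPoint K))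
    (by rw [← Points.ofPt_eq_map_ofScheme, ← Points.ofPt_eq_map_ofScheme, hw'])
  obtain ⟨ξ, rfl⟩ := (Points.schemeEquiv (hbe.rep.pullback top)).surjective z
  let Z : Scheme.{u} := (hbe.rep.pullback top).left
  let K₁ := Z.residueField ξ
  let ρ : Spec (CommRingCat.of K₁) ⟶ Z := Z.fromSpecResidueField ξ
  let ψc : CommRingCat.of K ⟶ CommRingCat.of K₁ := Spec.preimage (ρ ≫ (hbe.rep.snd top).left)
  have hψ : Spec.map (CommRingCat.ofHom ψc.hom) = ρ ≫ (hbe.rep.snd top).left := Spec.map_preimage _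
  have wρ : ρ ≫ (hbe.rep.pullback top).hom = Spec.map (CommRingCat.ofHom ψc.hom) ≫ sK := by
    rw [hψ, Category.assoc]
    congr 1
    exact (Over.w (hbe.rep.snd top)).symm
  let ρO : Over.mk (Spec.map (CommRingCat.ofHom ψc.hom) ≫ sK) ⟶ hbe.rep.pullback top :=
    Over.homMk ρ wρ
  have hρsnd : ρO ≫ hbe.rep.snd top = spHom ψc.hom rfl := by
    apply Over.OverMorphism.ext
    rw [Over.comp_left, spHom_left]
    exact hψ.symm
  obtain ⟨μ, hμ, hμeq⟩ := exists_spHom_eq (ρO ≫ pK)
  refine ⟨B, inferInstance, algebraMap R B, b, K₁, inferInstance, ψc.hom, μ, hμ, hbe, hbf, ?_⟩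
  rw [hμeq, Functor.map_comp, Category.assoc, hpK, sqK.w, ← Category.assoc, ← Functor.map_comp,
    hρsnd]

end G1

section G2
variable {S : Scheme.{u}}

/-- For a quasi-compact morphism `h : U ⟶ X` with dense image and an affine étale chart `Spec B` of
`X`, there is an affine scheme `Spec B₂` over `Spec B` mapping to `U` compatibly, whose image in
`Spec B` has every point as a specialization. -/
theorem exists_dense_chart {U X : Sp S} (hU : IsAlgSpace U) (hX : IsAlgSpace X) (h : U ⟶ X)
    (hh : IsQuasiCompactMor h) (hd : DenseRange (Points.map h)) {B : Type u} [CommRing B]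
    (sB : Spec (CommRingCat.of B) ⟶ S) (b : (yon S).obj (Over.mk sB) ⟶ X)
    (hb : RepWith @Etale b) :
    ∃ (B₂ : Type u) (_ : CommRing B₂) (η : B →+* B₂)
      (c₂ : (yon S).obj (Over.mk (Spec.map (CommRingCat.ofHom η) ≫ sB)) ⟶ U),
      c₂ ≫ h = (yon S).map (spHom η rfl) ≫ b ∧
      ∀ q : PrimeSpectrum B, ∃ q₂ : PrimeSpectrum B₂, PrimeSpectrum.comap η q₂ ⤳ q := by
  have sqZ := IsPullback.of_hasPullback h b
  have hZ : IsAlgSpace (pullback h b) := isAlgSpace_of_isPullback sqZ hU hX (IsAlgSpace.yon_obj _)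
  have _ : CompactSpace ↥(Over.mk sB).left := inferInstanceAs (CompactSpace ↥(Spec _))
  have hZqc : IsQuasiCompactSp (pullback h b) :=
    hh (IsAlgSpace.yon_obj _) (isQuasiCompactSp_yon _) b _ _ sqZ
  obtain ⟨U₁, c₁, hU₁aff, hc₁e, hc₁s⟩ := exists_affine_etale_chart' hZqc
  have _ : IsAffine U₁.left := hU₁aff
  obtain ⟨h₁, hh₁⟩ := (yon S).map_surjective (c₁ ≫ pullback.snd h b)
  obtain ⟨B₂, _, _, e, he⟩ := exists_ZA_iso sB U₁ h₁
  have hrange : Set.range h₁.left = Points.ofPt b ⁻¹' Set.range (Points.map h) := by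
    ext w
    constructor
    · rintro ⟨u₁, rfl⟩
      refine ⟨Points.ofPt (c₁ ≫ pullback.fst h b) u₁, ?_⟩
      rw [Points.map_ofPt, Category.assoc, sqZ.w, ← Category.assoc, ← hh₁,
        Groth.Agent.H53.FibrePts.ofPt_yon_map_comp]
    · rintro ⟨x, hx⟩
      obtain ⟨z, hz1, hz2⟩ := exists_point_of_isPullback sqZ x (Points.ofScheme _ w)
        (by rw [hx, ← Points.ofPt_eq_map_ofScheme])
      obtain ⟨u₁, rfl⟩ := Groth.Agent.H53.surjective_ofPt_of_surjective c₁ hc₁s z
      refine ⟨u₁, ?_⟩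
      apply (Points.schemeEquiv (Over.mk sB)).injective
      change Points.ofScheme _ _ = Points.ofScheme _ w
      rw [← hz2, Points.map_ofPt, ← hh₁]
      exact (Groth.Agent.H53.FibrePts.ofPt_yon_map h₁ u₁).symm
  have hdense : Dense (Set.range h₁.left) := by
    rw [hrange]
    exact Dense.preimage hd (Groth.Agent.H53.isOpenMap_ofPt_of_etale b hb)
  have hqc : QuasiCompact h₁.left := by
    have : IsAffine (Over.mk sB).left := inferInstanceAs (IsAffine (Spec (CommRingCat.of B)))
    infer_instance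
  refine ⟨B₂, inferInstance, algebraMap B B₂,
    (yon S).map e.hom ≫ c₁ ≫ pullback.fst h b, ?_, ?_⟩
  · rw [Category.assoc, Category.assoc, sqZ.w, ← Category.assoc c₁, ← hh₁, ← Functor.map_comp_assoc,
      he]
    rfl
  · intro q
    obtain ⟨u₁, hu₁⟩ := Groth.Agent.Lib.Helper78.exists_specializes_of_mem_closure_range h₁.left
      (show ↥(Over.mk sB).left from q) (by rw [hdense.closure_eq]; trivial)
    refine ⟨e.inv.left u₁, ?_⟩
    have h2 : (gA sB B₂).left (e.inv.left u₁) = h₁.left u₁ := by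
      rw [← he, Over.comp_left]
      change h₁.left ((e.inv.left ≫ e.hom.left) u₁) = _
      rw [← Over.comp_left, Iso.inv_hom_id]
      rfl
    change (gA sB B₂).left (e.inv.left u₁) ⤳ q
    rw [h2]
    exact hu₁

end G2

end Groth.Agent.H53.RefVal
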