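import Groth.Agent.H53.RefVal.Affine
import Groth.Agent.H53.ValuativeFlat
import Groth.Agent.H53.AffineChart
import Groth.Agent.H52.QC5
import Groth.Agent.H52.Top2

set_option autoImplicit false
set_option backward.isDefEq.respectTransparency false
universe u
open CategoryTheory CategoryTheory.Limits AlgebraicGeometry IsLocalRing
open AlgSp

namespace Groth.Agent.H53.RefVal

open Groth.Agent.H52

variable {S : Scheme.{u}}

/-- The hypotheses of the refined valuative criterion pass to an étale base change of the target. -/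
theorem hv_of_isPullback {U X Y U₁ X₁ Y₁ : Sp S} {f : X ⟶ Y} {h : U ⟶ X} {d : Y₁ ⟶ Y}
    {g₁ : X₁ ⟶ X} {f₁ : X₁ ⟶ Y₁} (pb : IsPullback g₁ f₁ f d) {k₁ : U₁ ⟶ U} {h₁ : U₁ ⟶ X₁}
    (hk : k₁ ≫ h = h₁ ≫ g₁)
    (hv : ∀ sq : ValSq f, (∃ t : (yon S).obj sq.ptK ⟶ U, t ≫ h = sq.top) →
      sq.HasUniq ∧ sq.HasLiftExt) :
    ∀ sq₁ : ValSq f₁, (∃ t : (yon S).obj sq₁.ptK ⟶ U₁, t ≫ h₁ = sq₁.top) →
      sq₁.HasUniq ∧ sq₁.HasLiftExt := by
  rintro sq₁ ⟨t₁, ht₁⟩
  obtain ⟨hu, e, l, hl1, hl2⟩ := hv (pushValSq sq₁ g₁ d pb.w) ⟨t₁ ≫ k₁, by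
    rw [Category.assoc, hk, ← Category.assoc, ht₁]⟩
  constructor
  · intro l l' h1 h2 h1' h2'
    apply pb.hom_ext
    · refine hu (l ≫ g₁) (l' ≫ g₁) ?_ ?_ ?_ ?_
      · rw [← Category.assoc]; exact congrArg (· ≫ g₁) h1
      · rw [Category.assoc, pb.w, ← Category.assoc]; exact congrArg (· ≫ d) h2
      · rw [← Category.assoc]; exact congrArg (· ≫ g₁) h1'
      · rw [Category.assoc, pb.w, ← Category.assoc]; exact congrArg (· ≫ d) h2'
    · rw [h2, h2']
  · refine ⟨pullDomExt sq₁ g₁ d pb.w e, pb.lift l (_ ≫ sq₁.bot) hl2, ?_, ?_⟩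
    · apply pb.hom_ext
      · rw [Category.assoc, pb.lift_fst, Category.assoc]
        exact hl1
      · rw [Category.assoc, pb.lift_snd, Category.assoc, sq₁.comm, ← Category.assoc,
          ← Category.assoc]
        refine congrArg (· ≫ sq₁.bot) ?_
        refine ((yon S).map_comp _ _).symm.trans
          (Eq.trans (congrArg (yon S).map ?_) ((yon S).map_comp _ _))
        apply Over.OverMorphism.ext
        exact spec_comm_sq _ _ _ _ e.comm
    · exact pb.lift_snd _ _ _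

/-- Density of the image passes to an étale base change. -/
theorem denseRange_of_isPullback {U X U₁ X₁ : Sp S} {h : U ⟶ X} {g₁ : X₁ ⟶ X} {k₁ : U₁ ⟶ U}
    {h₁ : U₁ ⟶ X₁} (pbU : IsPullback k₁ h₁ h g₁) (hg₁ : RepWith @Etale g₁)
    (hd : DenseRange (Points.map h)) : DenseRange (Points.map h₁) := by
  have hrange : Set.range (Points.map h₁) = Points.map g₁ ⁻¹' Set.range (Points.map h) := by
    ext x₁
    constructor
    · rintro ⟨u₁, rfl⟩
      refine ⟨Points.map k₁ u₁, ?_⟩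
      rw [← Points.map_comp, ← Points.map_comp, pbU.w]
    · rintro ⟨u, hu⟩
      obtain ⟨z, -, hz2⟩ := exists_point_of_isPullback pbU u x₁ hu
      exact ⟨z, hz2⟩
  change Dense (Set.range (Points.map h₁))
  rw [hrange]
  exact Dense.preimage hd (isOpenMap_points_of_etale g₁ hg₁)

end Groth.Agent.H53.RefVal
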